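import Mathlib

/-! Arithmetic of the degrees in a principal `5`-block of a group of order `5 · 3 ^ a · 2 ^ b`. -/

set_option autoImplicit false

namespace Cfsg.Agent.K3

theorem p3 (j : ℕ) : (j % 4 = 0 ∧ (3 : ℤ) ^ j % 80 = 1) ∨ (j % 4 = 1 ∧ (3 : ℤ) ^ j % 80 = 3) ∨
    (j % 4 = 2 ∧ (3 : ℤ) ^ j % 80 = 9) ∨ (j % 4 = 3 ∧ (3 : ℤ) ^ j % 80 = 27) := by
  induction j with
  | zero => simp
  | succ j ih => rw [pow_succ]; omega

theorem p2 (i : ℕ) : (i % 4 = 0 ∧ (2 : ℤ) ^ i % 15 = 1) ∨ (i % 4 = 1 ∧ (2 : ℤ) ^ i % 15 = 2) ∨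
    (i % 4 = 2 ∧ (2 : ℤ) ^ i % 15 = 4) ∨ (i % 4 = 3 ∧ (2 : ℤ) ^ i % 15 = 8) := by
  induction i with
  | zero => simp
  | succ j ih => rw [pow_succ]; omega

theorem pdvd (q : ℤ) {i k : ℕ} (h : k ≤ i) : ∃ t, q ^ i = q ^ k * t := pow_dvd_pow q h

/-- equality up to sign -/
def PM (x y : ℤ) : Prop := x = y ∨ x = -y

theorem adj {i j : ℕ} {x y : ℤ} (hx : PM x (2 ^ i)) (hy : PM y (3 ^ j)) (h : PM (x + y) 1) :
    i ≤ 3 := by
  by_contra! hi
  obtain ⟨t, ht⟩ := pdvd 2 hi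
  have := p3 j
  have := p2 i
  have : (0 : ℤ) < 3 ^ j := by positivity
  have : (0 : ℤ) < 2 ^ i := by positivity
  unfold PM at *
  omega

theorem PM.of_dvd {q x : ℤ} (hq : 1 < q) {i k : ℕ} (hx : PM x (q ^ i)) (hi : i ≤ k)
    (h : q ^ k ∣ x) : i = k := by
  have : q ^ k ∣ q ^ i := by rcases hx with rfl | rfl <;> simpa using h
  exact le_antisymm hi ((pow_dvd_pow_iff (by omega) (by rw [Int.isUnit_iff]; omega)).1 this)

theorem pm_cancel {c x y : ℤ} (hc : c ≠ 0) (h : PM (c * x) (c * y)) : PM x y :=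
  h.imp (mul_left_cancel₀ hc) fun h => mul_left_cancel₀ hc (by rw [h]; ring)

theorem split {x : ℤ} {k i j : ℕ} (hx : x % 2 = 1) (h : PM (2 ^ k * x) (2 ^ i * 3 ^ j)) :
    i = k ∧ PM x (3 ^ j) := by
  have h3 := p3 j
  rcases lt_trichotomy i k with l | rfl | l
  · obtain ⟨t, rfl⟩ := Nat.exists_eq_add_of_lt l
    rw [add_assoc, pow_add, mul_assoc] at h
    have := pm_cancel (by positivity) h
    rw [pow_succ, mul_right_comm] at this
    unfold PM at this; omega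
  · exact ⟨rfl, pm_cancel (by positivity) h⟩
  · obtain ⟨t, rfl⟩ := Nat.exists_eq_add_of_lt l
    rw [add_assoc, pow_add, mul_assoc] at h
    have := pm_cancel (by positivity) h
    rw [pow_succ, mul_right_comm] at this
    unfold PM at this; omega

theorem two_sum {α c γ δ : ℕ} {x y n : ℤ} (hx : PM x (2 ^ α)) (hy : PM y (2 ^ c)) (hc : α ≤ c)
    (hn : PM n (2 ^ γ * 3 ^ δ)) (hδ : δ ≠ 0) (h : x + y + n = 0) (x5 : x % 5 = 1) (n5 : n % 5 = 1) :
    c = α + 3 ∧ y = 8 * x ∧ n = -9 * x := by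
  obtain ⟨t, rfl⟩ := Nat.exists_eq_add_of_le hc
  obtain ⟨s, hs, rfl⟩ : ∃ s, PM s (2 ^ t) ∧ y = x * s := by
    rw [pow_add] at hy
    rcases hx with rfl | rfl <;> rcases hy with rfl | rfl
    exacts [⟨_, .inl rfl, rfl⟩, ⟨_, .inr rfl, by ring⟩, ⟨_, .inr rfl, by ring⟩, ⟨_, .inl rfl, by ring⟩]
  obtain ⟨w, hw⟩ := pdvd 3 (Nat.one_le_iff_ne_zero.2 hδ)
  have e : n = -(x * (1 + s)) := by linarith
  have h1 : PM (2 ^ α * (1 + s)) (2 ^ γ * 3 ^ δ) := by
    rcases hx with rfl | rfl <;> rcases hn with r | r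
    exacts [.inr (by linarith), .inl (by linarith), .inl (by linarith), .inr (by linarith)]
  rcases t with _ | t
  · exfalso
    have p : (0 : ℤ) < 2 ^ γ * 3 ^ δ := by positivity
    rcases hs with rfl | rfl
    · have := (split (k := α + 1) (x := 1) rfl (by simpa [pow_succ] using h1)).2
      unfold PM at this; omega
    · unfold PM at h1; simp only [pow_zero, add_neg_cancel, mul_zero] at h1; omega
  have h2 := (split (by rw [pow_succ] at hs; unfold PM at hs; omega) h1).2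
  have h3 := adj (y := -(1 + s)) (j := δ) hs (h2.symm.imp (by omega) (by omega)) (.inr (by ring))
  have h4 : t = 0 ∨ t = 1 ∨ t = 2 := by omega
  unfold PM at h2 hs
  rcases h4 with rfl | rfl | rfl <;> rcases hs with rfl | rfl <;> omega

/-- the constraints on one signed degree -/
structure Row (a b : ℕ) (d : ℤ) (α β : ℕ) (A B : Prop) : Prop where
  pm : PM d (2 ^ α * 3 ^ β)
  la : α ≤ b
  lb : β ≤ a
  five : d % 5 = 1
  ne : d ≠ 1
  hA : A → β ≠ 0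
  hB : B → α ≠ 0 ∧ (β = 0 ∨ β + 2 ≤ a)

variable {a b α β γ δ i j : ℕ} {d u v m n : ℤ} {A B A' B' : Prop}

theorem Row.two (h : Row a b d α β A B) : (α = 0 ∧ d % 2 = 1) ∨ (α ≠ 0 ∧ d % 2 = 0) := by
  have h1 := h.pm
  have := p3 β
  rcases α with _ | α
  · unfold PM at h1; omega
  · rw [pow_succ, mul_right_comm] at h1; unfold PM at h1; omega

theorem Row.three (h : Row a b d α β A B) : (β = 0 ∧ d % 3 ≠ 0) ∨ (β ≠ 0 ∧ d % 3 = 0) := by
  have h1 := h.pm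
  have := p2 α
  rcases β with _ | β
  · unfold PM at h1; omega
  · rw [pow_succ, ← mul_assoc] at h1; unfold PM at h1; omega

theorem Row.pm3 (h : Row a b d 0 β A B) : PM d (3 ^ β) := by simpa using h.pm

theorem Row.pm2 (h : Row a b d α 0 A B) : PM d (2 ^ α) := by simpa using h.pm

theorem Row.u_data (h : Row a b d 0 β A B) : 2 ≤ β ∧ (1 + d) % 16 ≠ 0 ∧
    ((β % 4 = 0 ∧ d = 3 ^ β) ∨ (β % 4 = 2 ∧ d = -3 ^ β)) := by
  have h1 := h.pm3
  have h2 := h.five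
  have h3 := h.ne
  have := p3 β
  have : β ≠ 0 := by rintro rfl; unfold PM at h1; omega
  unfold PM at h1; omega

theorem Row.v_data (h : Row a b d α 0 A B) :
    (α % 4 = 0 ∧ d = 2 ^ α ∧ d % 3 = 1) ∨ (α % 4 = 2 ∧ d = -2 ^ α ∧ d % 3 = 2) := by
  have h1 := h.pm2
  have h2 := h.five
  have := p2 α
  unfold PM at h1; omega

theorem st {s t k x y : ℤ} (hx : x = 2 ^ b * s) (hy : y = 3 ^ a * t)
    (h : x * y = 2 ^ b * 3 ^ a * k) : s * t = k := by
  subst hx hy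
  exact mul_left_cancel₀ (show (2 : ℤ) ^ b * 3 ^ a ≠ 0 by positivity) (by rw [← h]; ring)

theorem unit_of {s t : ℤ} (h : PM (s * t) 1) : PM s 1 ∧ PM t 1 := by
  have : IsUnit (s * t) := Int.isUnit_iff.2 h
  exact ⟨Int.isUnit_iff.1 (isUnit_of_mul_isUnit_left this),
    Int.isUnit_iff.1 (isUnit_of_mul_isUnit_right this)⟩

theorem Row.odd (h : Row a b d 0 β A B) : d % 2 = 1 := by have := h.two; omega

theorem Row.even (h : Row a b d α β A B) (h0 : α ≠ 0) : d % 2 = 0 := by have := h.two; omega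

theorem Row.div3 (h : Row a b d α β A B) (h0 : β ≠ 0) : d % 3 = 0 := by have := h.three; omega

theorem pm_mul {c s : ℤ} (h : PM s 1) : PM (c * s) c := h.imp (by rintro rfl; ring) (by rintro rfl; ring)

theorem pm_neg {x y : ℤ} (h : PM x y) : PM (-x) y := h.symm.imp (by omega) (by omega)

theorem caseTT (hu : Row a b u 0 j True False) (hv : Row a b v i 0 False True)
    (hn : Row a b n γ δ A' B') {s t : ℤ} (hs : -(v + n) = 2 ^ b * s) (ht : -u = 3 ^ a * t)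
    (k : s * t = -2) (h3 : (v + n) % 3 = 2) : u = -3 ^ a ∧ v + n = 2 ^ (b + 1) ∧ b % 4 = 0 := by
  have pa : (0 : ℤ) < 3 ^ a := by positivity
  have vb := hv.la
  have v2 := hv.v_data
  obtain rfl := hu.pm3.of_dvd (by norm_num) hu.lb ⟨-t, by linarith⟩
  have ht' : PM t 1 := pm_cancel pa.ne' (by rw [← ht, mul_one]; exact pm_neg hu.pm3)
  have hy : PM (-(v + n)) (2 ^ (b + 1)) := by
    rw [pow_succ, hs]
    rcases ht' with rfl | rfl
    · obtain rfl : s = -2 := by omega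
      right; ring
    · obtain rfl : s = 2 := by omega
      left; ring
  have l3 : (0 : ℤ) < 2 ^ i := by positivity
  have key : v + n = 2 ^ (b + 1) ∧ b % 4 = 0 := by
    by_cases hδ : δ = 0
    · subst hδ
      have n4 := hn.v_data
      have l1 : (2 : ℤ) ^ i ≤ 2 ^ b := pow_le_pow_right₀ (by norm_num) vb
      have l2 : (2 : ℤ) ^ γ ≤ 2 ^ b := pow_le_pow_right₀ (by norm_num) hn.la
      have l4 : (0 : ℤ) < 2 ^ γ := by positivity
      rw [pow_succ] at hy ⊢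
      have l5 : (2 : ℤ) ^ i = 2 ^ b ∧ (2 : ℤ) ^ γ = 2 ^ b := by unfold PM at hy; omega
      obtain rfl := pow_right_injective₀ (by norm_num) (by norm_num) l5.1
      obtain rfl := pow_right_injective₀ (by norm_num) (by norm_num) l5.2
      omega
    · obtain ⟨e1, e2, e3⟩ := two_sum hv.pm2 hy (by omega) hn.pm hδ (by ring) hv.five hn.five
      have l4 : (0 : ℤ) < 2 ^ (b + 1) := by positivity
      unfold PM at hy; omega
  refine ⟨?_, key⟩
  rw [key.1, pow_succ] at hs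
  have pb : (0 : ℤ) < 2 ^ b := by positivity
  rcases ht' with rfl | rfl
  · omega
  · obtain rfl : s = 2 := by omega
    omega

theorem caseTF (hb : 6 ≤ b) (hu : Row a b u 0 j True False) (hv : Row a b v i 0 False True)
    (hn : Row a b n γ δ A' B') {s t : ℤ} (hs : -(v + n) = 2 ^ b * s) (ht : -(u + n) = 3 ^ a * t)
    (k : s * t = 1) : False := by
  obtain ⟨hs', ht'⟩ := unit_of (.inl k)
  obtain ⟨u1, -, u2⟩ := hu.u_data
  obtain ⟨c, rfl⟩ := Nat.exists_eq_add_of_le (hu.lb.trans' u1)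
  obtain ⟨l, rfl⟩ := Nat.exists_eq_add_of_le u1
  rw [pow_add] at ht u2
  rw [mul_assoc] at ht
  have hc : PM (3 ^ c * t) (3 ^ c) := pm_mul ht'
  generalize 3 ^ c * t = z at hc ht
  have hδ : δ ≠ 0 := by have := hn.three; omega
  obtain ⟨e1, e2, e3⟩ := two_sum hv.pm2 (hs ▸ pm_mul hs') hv.la hn.pm hδ (by ring) hv.five hn.five
  have v2 := hv.v_data
  rcases l with _ | l
  · have := adj hv.pm2 (pm_neg hc) (.inr (by omega))
    omega
  · obtain ⟨c, rfl⟩ : ∃ e, c = e + 1 := ⟨c - 1, by have := hu.lb; omega⟩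
    rw [pow_succ 3 c] at hc
    rw [pow_succ 3 l] at u2
    unfold PM at hc
    omega

theorem caseFT (hb : 6 ≤ b) {x s t : ℤ} (hs : x = 2 ^ b * s) (ht : 1 - x = 3 ^ a * t)
    (k : s * t = -4) : False := by
  obtain ⟨T, hT⟩ := pdvd 2 hb
  have t2 : t % 2 = 1 := by
    rw [hT, mul_assoc] at hs
    rcases Int.emod_two_eq_zero_or_one t with r | r
    · obtain ⟨w, rfl⟩ := Int.dvd_of_emod_eq_zero r
      rw [mul_left_comm] at ht; omega
    · exact r
  have : t ∣ 4 := ⟨-s, by linarith⟩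
  have l := Int.le_of_dvd (by norm_num) this
  have l' := Int.le_of_dvd (by norm_num) ((neg_dvd).2 this)
  have h1 : PM t 1 ∧ PM s 4 := by
    have : t = -3 ∨ t = -1 ∨ t = 1 ∨ t = 3 := by omega
    unfold PM
    rcases this with rfl | rfl | rfl | rfl <;> omega
  have := adj (i := b + 2) (x := x) (by rw [hs, pow_add]; exact h1.2.imp (by rintro rfl; ring) (by rintro rfl; ring))
    (ht ▸ pm_mul h1.1) (.inl (by ring))
  omega

theorem caseFF (ha : 2 ≤ a) (hv : Row a b v i 0 False True) {s t : ℤ} (ht : 1 + v = 3 ^ a * t)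
    (k : s * t = -1) : False := by
  obtain ⟨-, ht'⟩ := unit_of (.inr k)
  have h1 := adj hv.pm2 (pm_neg (ht ▸ pm_mul ht')) (.inr (by ring))
  obtain ⟨w, hw⟩ := pdvd 3 ha
  have v2 := hv.v_data
  have := (hv.hB trivial).1
  obtain rfl : i = 2 := by omega
  rw [hw, mul_assoc] at ht
  omega

open Classical in
/-- the two configurations that survive -/
theorem four_aux (hb : 6 ≤ b) (hu : Row a b u 0 j True False) (hv : Row a b v i 0 False True)
    (hm : Row a b m α β True B) (hn : Row a b n γ δ A' B') (h0 : 1 + u + v + m + n = 0)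
    (h2 : 2 ^ b ∣ 1 + u + m + if A' then n else 0)
    (h3 : 3 ^ a ∣ 1 + v + (if B then m else 0) + if B' then n else 0)
    (hI : (1 + u + m + if A' then n else 0) * (1 + v + (if B then m else 0) + if B' then n else 0) =
      2 ^ b * 3 ^ a * (5 * (1 + (if B then 1 else 0) + if A' ∧ B' then 1 else 0) -
        (3 + if A' then 1 else 0) * (2 + (if B then 1 else 0) + if B' then 1 else 0))) :
    (u = 3 ^ a ∧ v = -2 ^ b ∧ B ∧ A' ∧ B') ∨
      (u = -3 ^ a ∧ ¬ A' ∧ 1 + u + m = -2 ^ (b + 1) ∧ b % 4 = 0) := by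
  obtain ⟨s, hs⟩ := h2
  obtain ⟨t, ht⟩ := h3
  have k := st hs ht hI
  clear hI
  have u1 := hu.u_data.1
  have u3 := hu.div3 (by omega)
  have m3 := hm.div3 (hm.hA trivial)
  have pb : (0 : ℤ) < 2 ^ b := by positivity
  by_cases hA : A'
  · obtain rfl := hv.pm2.of_dvd (by norm_num) hv.la ⟨-s, by simp only [hA, if_true] at hs; linarith⟩
    simp only [hA, if_true, true_and] at hs k
    have n3 := hn.div3 (hn.hA hA)
    have v2 : v = -2 ^ i := by have := hv.v_data; omega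
    obtain rfl : s = 1 := mul_left_cancel₀ pb.ne' (by omega)
    have v3 := hv.even (hv.hB trivial).1
    by_cases hB : B <;> by_cases hB' : B' <;> simp only [hB, hB', if_true, if_false] at ht k
    · obtain rfl : t = -1 := by omega
      exact .inl ⟨by omega, v2, hB, hA, hB'⟩
    · have := hm.even (hm.hB hB).1
      obtain rfl : t = -2 := by omega
      omega
    · have := hn.even (hn.hB hB').1
      obtain rfl : t = -2 := by omega
      omega
    · obtain rfl : t = -3 := by omega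
      have := adj (j := a + 1) hv.pm2 (y := -(1 + v)) (.inl (by rw [pow_succ]; omega)) (.inr (by ring))
      omega
  simp only [hA, if_false, false_and, add_zero] at hs k
  have e : -(v + n) = 2 ^ b * s := by omega
  by_cases hB : B <;> by_cases hB' : B' <;> simp only [hB, hB', if_true, if_false, add_zero] at ht k
  · obtain ⟨e1, e2, e3⟩ := caseTT hu hv hn e (t := t) (by omega) (by omega) (by omega)
    exact .inr ⟨e1, hA, by omega, e3⟩
  · exact (caseTF hb hu hv hn e (t := t) (by omega) (by omega)).elim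
  · exact (caseFT (a := a) hb e (t := t) (by omega) (by omega)).elim
  · exact (caseFF (hu.lb.trans' u1) hv ht (s := s) (by omega)).elim

theorem lte {k e : ℕ} (h : (3 : ℤ) ^ (e + 1) ∣ 4 ^ k - 1) : 3 ^ e ∣ k := by
  have h1 := Int.emultiplicity_pow_sub_pow Nat.prime_three (by decide) (x := 4) (y := 1)
    (by norm_num) (by norm_num) k
  rw [one_pow, show (4 : ℤ) - 1 = (3 : ℕ) from rfl, Int.natCast_emultiplicity,
    Nat.prime_three.emultiplicity_self] at h1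
  have h2 := pow_dvd_iff_le_emultiplicity.1 h
  rw [show (3 : ℤ) = (3 : ℕ) from rfl, h1, Nat.cast_succ, add_comm 1] at h2
  exact pow_dvd_iff_le_emultiplicity.2 ((WithTop.add_le_add_iff_right WithTop.one_ne_top).1 h2)

theorem sq_le_pow {n : ℕ} (h : 20 ≤ n) : 2304 * n ^ 2 ≤ 2 ^ n := by
  induction n, h using Nat.le_induction with
  | base => norm_num
  | succ n h ih => rw [pow_succ 2]; nlinarith

theorem caseS {c : ℕ} {W P : ℤ} (hb : 6 ≤ b) (b4 : b % 4 = 0) (a4 : a % 4 = 2)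
    (hm : PM m (2 ^ α * 3 ^ β)) (hβ : β ≠ 0) (hβa : β ≤ a) (h0 : 1 + -3 ^ a + m = -2 ^ (b + 1))
    (hW : |W| < |m|) (hP : P = 0 ∨ P = 5)
    (hq : P * (2 ^ b * 3 ^ c) ^ 2 * -3 ^ a * m =
      5 * 3 ^ a * 2 ^ b * (-3 ^ a * m + (1 + W) ^ 2 * m + W ^ 2 * -3 ^ a)) : False := by
  obtain ⟨p, rfl, hp⟩ : ∃ p, P = 5 * p ∧ (p = 0 ∨ p = 1) := by
    rcases hP with rfl | rfl; exacts [⟨0, rfl, .inl rfl⟩, ⟨1, rfl, .inr rfl⟩]
  have e1 : (m - W) ^ 2 + 2 ^ (b + 1) * (m + W ^ 2) = p * 2 ^ b * (3 ^ c) ^ 2 * m := by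
    refine mul_left_cancel₀ (show (5 : ℤ) * 3 ^ a * 2 ^ b ≠ 0 by positivity) ?_
    linear_combination hq + (5 * 3 ^ a * 2 ^ b * (m + W ^ 2)) * h0
  obtain ⟨T, hT⟩ := pdvd 2 (show 4 ≤ b + 1 by omega)
  have a3 := p3 a
  obtain ⟨μ, rfl, h1⟩ : ∃ μ, m = 2 ^ 3 * μ ∧ μ % 2 = 1 := ⟨m / 8, by omega, by omega⟩
  have h2 := (split h1 hm).2
  have p3 : (0 : ℤ) < 3 ^ β := by positivity
  have h3 : 2 ^ (b + 1) ≤ (2 ^ 3 * μ - W) ^ 2 := by
    refine Int.le_of_dvd (sq_pos_of_ne_zero fun h => ?_)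
      ⟨p * (3 ^ c) ^ 2 * 4 * μ - (2 ^ 3 * μ + W ^ 2), by linear_combination e1⟩
    rw [sub_eq_zero.1 h] at hW; exact lt_irrefl _ hW
  have h4 : |2 ^ 3 * μ| = 8 * 3 ^ β := by
    rcases h2 with rfl | rfl
    · exact abs_of_pos (by positivity)
    · rw [mul_neg, abs_neg]; exact abs_of_pos (by positivity)
  rw [h4, abs_lt] at hW
  have h5 : (2 : ℤ) ^ (b + 1) < 256 * (3 ^ β) ^ 2 := by rcases h2 with rfl | rfl <;> nlinarith
  obtain ⟨e, rfl⟩ : ∃ e, β = e + 1 := ⟨β - 1, by omega⟩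
  have h6 : 3 ^ e ∣ b + 1 := by
    obtain ⟨w, hw⟩ := pdvd 3 hβa
    have : (3 : ℤ) ^ (e + 1) ∣ 2 ^ (b + 1) + 1 := by
      rcases h2 with rfl | rfl
      exacts [⟨w - 8, by linear_combination h0 + hw⟩, ⟨w + 8, by linear_combination h0 + hw⟩]
    refine lte (this.trans ⟨2 ^ (b + 1) - 1, ?_⟩)
    rw [show (4 : ℤ) = 2 ^ 2 from rfl, ← pow_mul, mul_comm 2, pow_mul]; ring
  have h7 := Nat.le_of_dvd (by omega) h6
  have h8 : b + 1 < 20 := by
    by_contra! h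
    have := sq_le_pow h
    rw [pow_succ 3] at h5
    zify at this h7
    have : (0 : ℤ) < 3 ^ e := by positivity
    nlinarith
  have h9 : e < 3 := by
    by_contra! h
    have := Nat.pow_le_pow_right (show 0 < 3 by norm_num) h
    omega
  have h10 : a < 14 := by
    by_contra! h
    have := pow_le_pow_right₀ (show (1 : ℤ) ≤ 3 by norm_num) h
    have := pow_le_pow_right₀ (show (1 : ℤ) ≤ 2 by norm_num) h8.le
    have := pow_le_pow_right₀ (show (1 : ℤ) ≤ 3 by norm_num) (show e + 1 ≤ 3 from h9)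
    unfold PM at h2; omega
  have h11 : b = 8 ∧ μ = 27 := by
    unfold PM at h2
    clear * - h2 h0 hb b4 a4 h8 h9 h10 h6
    have hb : b = 8 ∨ b = 12 ∨ b = 16 := by omega
    have ha : a = 2 ∨ a = 6 ∨ a = 10 := by omega
    have he : e = 0 ∨ e = 1 ∨ e = 2 := by omega
    rcases hb with rfl | rfl | rfl <;> rcases ha with rfl | rfl | rfl <;>
      rcases he with rfl | rfl | rfl <;> omega
  obtain ⟨rfl, rfl⟩ := h11
  rw [← h4] at hW
  norm_num at hW e1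
  rcases hp with rfl | rfl
  · nlinarith
  have hc : c < 3 := by
    by_contra! h
    have := pow_le_pow_right₀ (show (1 : ℤ) ≤ 3 by norm_num) h
    nlinarith
  have : ∀ w < 432, ∀ c < 3, (216 - ((w : ℕ) - 216 : ℤ)) ^ 2 + 512 * (216 + ((w : ℕ) - 216 : ℤ) ^ 2) ≠
      256 * (3 ^ c) ^ 2 * 216 := by decide +kernel
  refine this (W + 216).toNat (by omega) c hc ?_
  rw [Int.toNat_of_nonneg (by omega), add_sub_cancel_right]
  linarith

theorem caseM1 (hb : 6 ≤ b) (a4 : a % 4 = 0) (hm : Row a b m α β A B) (hn : Row a b n γ δ A' B')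
    (h0 : 1 + 3 ^ a + -2 ^ b + m + n = 0) (h : m % 4 = 2) : α = 1 ∧ (γ = 2 ∨ γ = 3) := by
  obtain ⟨T, hT⟩ := pdvd 2 hb
  have a3 := p3 a
  obtain ⟨μ, rfl, h1⟩ : ∃ μ, m = 2 ^ 1 * μ ∧ μ % 2 = 1 := ⟨m / 2, by omega, by omega⟩
  obtain ⟨rfl, h2⟩ := split h1 hm.pm
  have := hm.five
  have := p3 β
  have h3 : n % 16 = 4 ∨ n % 16 = 8 := by unfold PM at h2; omega
  refine ⟨rfl, h3.imp (fun h => ?_) fun h => ?_⟩
  · exact (split (k := 2) (x := n / 4) (by omega) (by convert hn.pm; omega)).1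
  · exact (split (k := 3) (x := n / 8) (by omega) (by convert hn.pm; omega)).1

theorem eta {σ w k₀ k : ℤ} (hσ : 0 < σ) (hm : PM m (σ * 3 ^ β)) (hk : ¬ 3 ∣ k₀) (h1 : k₀ * w = k * m)
    (h2 : 3 ∣ k - k₀) (h3 : -m ^ 2 ≤ 2 * (w * m)) (h4 : w * m < m ^ 2) :
    ∃ μ η, PM μ (3 ^ β) ∧ m = σ * μ ∧ w = η * μ ∧ 3 ∣ η - σ ∧ -σ ≤ 2 * η ∧ η < σ := by
  obtain ⟨μ, hμ, rfl⟩ : ∃ μ, PM μ (3 ^ β) ∧ m = σ * μ := by
    rcases hm with rfl | rfl; exacts [⟨_, .inl rfl, rfl⟩, ⟨_, .inr rfl, by ring⟩]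
  have c : IsCoprime μ k₀ := by
    have := ((Int.prime_three.coprime_iff_not_dvd).2 hk).pow_left (m := β)
    rcases hμ with rfl | rfl; exacts [this, this.neg_left]
  obtain ⟨η, rfl⟩ := c.dvd_of_dvd_mul_left ⟨k * σ, by rw [h1]; ring⟩
  have p : (0 : ℤ) < 3 ^ β := by positivity
  have h0 : μ ≠ 0 := by unfold PM at hμ; omega
  have p2 : 0 < σ * μ ^ 2 := by positivity
  have e : k₀ * η = k * σ := mul_left_cancel₀ h0 (by linear_combination h1)
  refine ⟨μ, η, hμ, rfl, mul_comm _ _, (Int.prime_three.dvd_or_dvd (a := k₀) ?_).resolve_left hk,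
    by nlinarith, by nlinarith⟩
  obtain ⟨z, hz⟩ := h2
  exact ⟨z * σ, by linear_combination e + σ * hz⟩

theorem keyM {σ μ ν : ℤ} (hb : 6 ≤ b) (a4 : a % 4 = 0) (hμ : PM μ (3 ^ β)) (hν : PM ν (3 ^ δ))
    (hσ : σ = 4 ∨ σ = 8) (m5 : (2 * μ) % 5 = 1) (n5 : (σ * ν) % 5 = 1)
    (h0 : 1 + 3 ^ a + -2 ^ b + 2 * μ + σ * ν = 0) :
    β % 2 = 1 ∧ ((σ = 4 ∧ δ % 2 = 0) ∨ (σ = 8 ∧ β % 4 = 1 ∧ μ = 3 ^ β ∧
      ((δ % 4 = 3 ∧ ν = 3 ^ δ) ∨ (δ % 4 = 1 ∧ ν = -3 ^ δ)))) := by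
  have h1 : (β % 4 = 1 ∧ μ = 3 ^ β ∧ μ % 8 = 3) ∨ (β % 4 = 3 ∧ μ % 8 = 5) := by
    have := p3 β
    clear * - this hμ m5
    unfold PM at hμ; omega
  have h2 : (2 * μ + σ * ν) % 16 = 14 := by
    obtain ⟨T, hT⟩ := pdvd 2 hb
    have := p3 a
    clear * - this hT a4 h0
    omega
  have := p3 δ
  clear hμ m5 h0 hb a4
  unfold PM at hν
  rcases hσ with rfl | rfl
  · exact ⟨by omega, .inl ⟨rfl, by clear h1 h2; omega⟩⟩
  · have h3 : ν % 2 = 1 ∧ ((δ % 4 = 3 ∧ ν = 3 ^ δ) ∨ (δ % 4 = 1 ∧ ν = -3 ^ δ)) := by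
      clear h1 h2; omega
    clear this hν n5
    exact ⟨by omega, .inr ⟨rfl, by omega, by omega, h3.2⟩⟩

theorem caseM3 {σ k μ ν : ℤ} (hb : 6 ≤ b) (a4 : a % 4 = 0) (hμ : PM μ (3 ^ β)) (hν : PM ν (3 ^ δ))
    (hσ : σ = 4 ∨ σ = 8) (m5 : (2 * μ) % 5 = 1) (n5 : (σ * ν) % 5 = 1) (hβ : β + 2 ≤ a)
    (hδ : δ + 2 ≤ a) (δ0 : δ ≠ 0) (h0 : 1 + 3 ^ a + -2 ^ b + 2 * μ + σ * ν = 0) (b2 : b % 2 = 0)
    (k1 : 0 < k) (k2 : 2 * k ≤ σ)
    (h : 3 ^ a ∣ 9 * (σ * μ + 2 * k ^ 2 * ν + μ * ν * (σ - 2 * k) ^ 2)) :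
    a = 4 ∧ b = 6 ∧ μ = 3 := by
  have key := keyM hb a4 hμ hν hσ m5 n5 h0
  obtain ⟨c, rfl⟩ : ∃ c, a = c + 2 := ⟨a - 2, by omega⟩
  rw [pow_add, mul_comm] at h
  replace h := (mul_dvd_mul_iff_left (by norm_num)).1 h
  clear m5 n5
  have pm : ∀ {x : ℤ} {e f : ℕ}, PM x (3 ^ (e + f)) → ∃ y, PM y (3 ^ f) ∧ x = 3 ^ e * y := by
    rintro x e f (rfl | rfl)
    exacts [⟨_, .inl rfl, pow_add _ _ _⟩, ⟨_, .inr rfl, by ring⟩]
  have p0 : ∀ e : ℕ, (3 : ℤ) ^ e ≠ 0 := fun e => by positivity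
  have dv : ∀ e f, e + f ≤ c → ∀ z, σ * μ + 2 * k ^ 2 * ν + μ * ν * (σ - 2 * k) ^ 2 = 3 ^ e * z →
      (3 : ℤ) ^ f ∣ z := fun e f he z hz =>
    (mul_dvd_mul_iff_left (p0 e)).1 (by rw [← pow_add, ← hz]; exact (pow_dvd_pow 3 he).trans h)
  have hk : k = 1 ∨ k = 2 ∨ k = 3 ∨ k = 4 := by omega
  obtain ⟨d, rfl⟩ : ∃ d, δ = d + 1 := ⟨δ - 1, by omega⟩
  rcases lt_trichotomy β (d + 1) with l | rfl | l
  · exfalso
    obtain ⟨f, hf⟩ := Nat.exists_eq_add_of_lt l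
    obtain ⟨y, hy, rfl⟩ := pm (e := β) (f := 0) hμ
    obtain ⟨z, -, rfl⟩ := pm (e := β + 1) (f := f) (by rwa [hf, add_right_comm] at hν)
    have := dv β 1 (by omega) (σ * y + 3 * (2 * k ^ 2 * z + 3 ^ β * y * z * (σ - 2 * k) ^ 2)) (by ring)
    unfold PM at hy
    clear * - this hy hσ
    rcases hσ with rfl | rfl <;> omega
  · obtain ⟨rfl, h1, rfl, rfl⟩ : σ = 8 ∧ (d + 1) % 4 = 1 ∧ μ = 3 ^ (d + 1) ∧ ν = -3 ^ (d + 1) := by
      clear * - key; omega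
    have h2 : c ≤ 2 * (d + 1) := by
      by_contra! l
      have e := dv (d + 1) (d + 2) (by omega) (8 - 2 * k ^ 2 - 3 * (3 ^ d * (8 - 2 * k) ^ 2)) (by ring)
      have e' := (pow_dvd_pow 3 (show 2 ≤ d + 2 by omega)).trans e
      rcases hk with rfl | rfl | rfl | rfl
      · norm_num at e'; omega
      · have : (3 : ℤ) ^ (d + 1) * 3 ∣ 3 ^ (d + 1) * 16 := by
          rw [← dvd_neg, ← pow_succ]; exact e.trans ⟨1, by ring⟩
        have := (mul_dvd_mul_iff_left (p0 _)).1 this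
        omega
      · norm_num at e'; omega
      · norm_num at e'
    obtain ⟨b, rfl⟩ : ∃ e, b = 2 * e := ⟨b / 2, by omega⟩
    obtain ⟨f, rfl⟩ : ∃ f, c = d + 1 + f := ⟨c - (d + 1), by omega⟩
    rw [pow_mul] at h0
    have h3 := Nat.le_of_dvd (by omega) (lte (k := b) (e := d + 1)
      ⟨3 ^ (f + 1) - 2, by linear_combination -h0⟩)
    have h4 : (4 : ℤ) ^ b < 9 ^ (d + 2) := by
      have := pow_le_pow_right₀ (show (1 : ℤ) ≤ 3 by norm_num) (show d + 1 + f + 2 ≤ 2 * (d + 2) by omega)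
      rw [pow_mul] at this
      have : (0 : ℤ) < 3 ^ (d + 1) := by positivity
      rw [show (4 : ℤ) = 2 ^ 2 from rfl, show (9 : ℤ) = 3 ^ 2 from rfl]
      linarith
    obtain rfl : d = 0 := by
      by_contra hd
      have h5 : 2 * (d + 2) ≤ 3 ^ (d + 1) := by
        have := Nat.lt_pow_self (n := d) (show 1 < 3 by norm_num)
        rw [pow_succ]; omega
      have h6 := pow_le_pow_right₀ (show (1 : ℤ) ≤ 4 by norm_num) (h5.trans h3)
      rw [pow_mul] at h6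
      exact absurd (h6.trans_lt h4) (not_lt.2 (pow_le_pow_left₀ (by norm_num) (by norm_num) _))
    obtain rfl : f = 1 := by omega
    have : (4 : ℤ) ^ b = 4 ^ 3 := by norm_num at h0 ⊢; omega
    have := pow_right_injective₀ (by norm_num) (by norm_num) this
    exact ⟨rfl, by omega, rfl⟩
  · exfalso
    obtain ⟨f, rfl⟩ := Nat.exists_eq_add_of_lt l
    obtain ⟨y, hy, rfl⟩ := pm (e := d + 1) (f := 0) hν
    obtain ⟨z, hz, e⟩ := pm (e := d + 1 + 1) (f := f) (by rwa [add_right_comm] at hμ)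
    have := dv (d + 1) 1 (by omega) (2 * k ^ 2 * y + 3 * (σ * z + 3 ^ (d + 1) * z * y * (σ - 2 * k) ^ 2))
      (by rw [e]; ring)
    unfold PM at hy
    obtain rfl : k = 3 := by
      clear * - this hy hk
      rcases hk with rfl | rfl | rfl | rfl <;> omega
    obtain rfl : σ = 8 := by omega
    obtain ⟨f, rfl⟩ : ∃ g, f = g + 1 := ⟨f - 1, by clear * - key; omega⟩
    obtain ⟨w, hw, rfl⟩ := pm (e := 1) (f := f) (by rwa [add_comm] at hz)
    have := dv (d + 3) 1 (by clear * - key a4 hβ; omega) (8 * w + 2 * y + 3 * (3 ^ d * w * y * 4))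
      (by rw [e]; ring)
    rcases f with _ | f
    · have h1 : w = 1 := mul_left_cancel₀ (p0 (d + 3)) (by
        have : μ = 3 ^ (d + 1 + (0 + 1) + 1) := by clear * - key; omega
        rw [this] at e; linear_combination -e)
      have h2 : y = 1 := mul_left_cancel₀ (p0 (d + 1)) (by clear * - key; omega)
      omega
    · rw [pow_succ] at hw
      unfold PM at hw
      clear * - this hy hw
      omega

theorem caseM2 {wm wn k₀ km kn P C : ℤ} (hb : 6 ≤ b) (a4 : a % 4 = 0) (b2 : b % 2 = 0)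
    (hm : Row a b m 1 β True True) (hn : Row a b n γ δ True True) (hγ : γ = 2 ∨ γ = 3)
    (h0 : 1 + 3 ^ a + -2 ^ b + m + n = 0) (hk : ¬ 3 ∣ k₀) (m1 : k₀ * wm = km * m) (m2 : 3 ∣ km - k₀)
    (m3 : -m ^ 2 ≤ 2 * (wm * m)) (m4 : wm * m < m ^ 2) (n1 : k₀ * wn = kn * n) (n2 : 3 ∣ kn - k₀)
    (n3 : -n ^ 2 ≤ 2 * (wn * n)) (n4 : wn * n < n ^ 2) (hC : 3 ^ a ∣ C)
    (hq : P * C ^ 2 * m * n = 5 * 3 ^ a * (2 ^ b * m * n - (1 + wm + wn) ^ 2 * m * n +
      2 ^ b * wm ^ 2 * n + 2 ^ b * wn ^ 2 * m)) : a = 4 ∧ b = 6 ∧ m = 6 := by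
  obtain ⟨μ, η, hμ, rfl, rfl, e1, e2, e3⟩ := eta (by norm_num) hm.pm hk m1 m2 m3 m4
  obtain ⟨ν, θ, hν, rfl, rfl, ⟨k, f1⟩, f2, f3⟩ := eta (by positivity) hn.pm hk n1 n2 n3 n4
  obtain rfl : η = -1 := by omega
  have hσ : (2 : ℤ) ^ γ = 4 ∨ (2 : ℤ) ^ γ = 8 := hγ.imp (by rintro rfl; rfl) (by rintro rfl; rfl)
  have := hm.hA trivial
  have := hm.hB trivial
  have := hn.hA trivial
  have := hn.hB trivial
  have m5 := hm.five
  have n5 := hn.five
  generalize (2 : ℤ) ^ γ = σ at *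
  obtain rfl : θ = σ - 3 * -k := by omega
  obtain ⟨C, rfl⟩ := hC
  have p : ∀ e : ℕ, (0 : ℤ) < 3 ^ e := fun e => by positivity
  have μ0 : μ ≠ 0 := by have := p β; unfold PM at hμ; omega
  have ν0 : ν ≠ 0 := by have := p δ; unfold PM at hν; omega
  have := caseM3 (k := -k) hb a4 hμ hν hσ m5 n5 (by omega) (by omega) (by omega) h0 b2 (by omega)
    (by omega) ((IsCoprime.pow_left (m := a) (show IsCoprime (3 : ℤ) 5 by norm_num)).dvd_of_dvd_mul_left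
      ⟨2 * σ * P * C ^ 2 - 5 * (2 * σ + σ * μ + 2 * (σ + 3 * k) ^ 2 * ν),
        mul_left_cancel₀ (mul_ne_zero (mul_ne_zero μ0 ν0) (p a).ne') (by
          linear_combination -hq + 5 * 3 ^ a * μ * ν * (2 * σ + σ * μ + 2 * (σ + 3 * k) ^ 2 * ν) * h0)⟩)
  omega

end Cfsg.Agent.K3
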