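import Cfsg.Agent.K3.Tool
import Cfsg.Agent.K3.Num
import Cfsg.Agent.S1001

/-! The principal `5`-block of a simple group of order `5 · 3 ^ a · 2 ^ b`. -/

set_option autoImplicit false
set_option linter.style.haveILetI false
set_option linter.unusedSectionVars false

namespace Cfsg.Agent.K3

open Subgroup Cfsg.Agent.Char Cfsg.Agent.Char.Euclid Cfsg.Agent.Block Cfsg.Agent.Math
open scoped ComplexConjugate

/-- the four non-principal characters not vanishing at the elements of order `5` -/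
structure F5 (G : Type*) [Group G] where
  c : Fin 4 → IrrCharacter G
  s : Fin 4 → ℤ
  inj : Function.Injective c
  ne : ∀ i, c i ≠ irrOne G
  sign : ∀ i, s i = 1 ∨ s i = -1
  ord : ∀ g : G, 5 ∣ orderOf g → orderOf g = 5
  val : ∀ i g, orderOf g = 5 → (c i).1 g = s i
  rel : ∀ g, orderOf g ≠ 5 → 1 + ∑ i, s i * (c i).1 g = 0
  out : ∀ ψ, ψ ≠ irrOne G → (∀ i, ψ ≠ c i) → ∀ g, orderOf g = 5 → ψ.1 g = 0

variable {G : Type*} [Group G] [Finite G]

instance fact5 : Fact (Nat.Prime 5) := ⟨Nat.prime_five⟩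

theorem exists_F5 {x : G} (D : BD 5 x) (hc : D.c = 1) (he : D.e = 4) : Nonempty (F5 G) := by
  classical
  have hC := D.cent_of_c hc
  obtain ⟨θ, hθ⟩ := Finset.card_eq_one.1 (show D.Y.card = 1 by rw [D.cardY_eq, he])
  have hY : θ ∈ D.Y := hθ ▸ Finset.mem_singleton_self θ
  have hX : θ ∉ D.X := fun h => Finset.disjoint_left.1 D.disj h hY
  have hX' : θ ∉ D.X.erase (irrOne G) := fun h => hX (Finset.mem_of_mem_erase h)
  have hT : (insert θ (D.X.erase (irrOne G))).card = 4 := by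
    rw [Finset.card_insert_of_notMem hX', Finset.card_erase_of_mem D.h1, D.cardX, he]
  let e := (Finset.equivFinOfCardEq hT).symm
  let s : IrrCharacter G → ℤ := fun χ => if χ = θ then -D.δ else D.ε χ
  have k : ∀ i, (e i).1 = θ ∨ ((e i).1 ≠ θ ∧ (e i).1 ≠ irrOne G ∧ (e i).1 ∈ D.X) := fun i =>
    (em _).imp_right fun h => ⟨h, Finset.mem_erase.1 ((Finset.mem_insert.1 (e i).2).resolve_left h)⟩
  refine ⟨⟨fun i => e i, fun i => s (e i), Subtype.val_injective.comp e.injective, fun i => ?_,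
    fun i => ?_, fun g => Grp.SelfCent.orderOf_eq_of_dvd D.ox hC, fun i g hg => ?_, fun g hg => ?_,
    fun ψ h1 h2 g hg => D.out hC ψ (fun h => ?_) (fun h => ?_) g (hg ▸ dvd_rfl)⟩⟩
  · exact (k i).elim (fun h h' => hX ((h'.symm.trans h) ▸ D.h1)) fun h => h.2.1
  · rcases k i with h | h
    · have := D.signY
      simp only [s, if_pos h]; omega
    · simp only [s, if_neg h.1]; exact D.sign _ h.2.2
  · rcases k i with h | h
    · simp only [s, if_pos h]; rw [h, D.val_Y hc (by omega) hY g hg, Int.cast_neg]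
    · simp only [s, if_neg h.1]; exact D.valX_of_dvd D.ox hC h.2.2 (hg ▸ dvd_rfl)
  · have h := D.rel θ hY g fun h => hg (Grp.SelfCent.orderOf_eq_of_dvd D.ox hC h)
    rw [← Finset.add_sum_erase _ _ D.h1, D.ε_one, irrOne_apply] at h
    rw [e.sum_comp fun χ => (s χ : ℂ) * χ.1.1 g, Finset.sum_coe_sort _ fun χ => (s χ : ℂ) * χ.1 g,
      Finset.sum_insert hX', Finset.sum_congr rfl (g := fun χ => (D.ε χ : ℂ) * χ.1 g) fun χ hχ => by
        simp only [s, if_neg (ne_of_mem_of_not_mem hχ hX')]]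
    simp only [s, if_true]
    push_cast at h ⊢
    linear_combination -h
  · obtain ⟨i, hi⟩ := e.surjective ⟨ψ, Finset.mem_insert_of_mem (Finset.mem_erase.2 ⟨h1, h⟩)⟩
    exact h2 i (congrArg Subtype.val hi).symm
  · obtain ⟨i, hi⟩ := e.surjective ⟨θ, Finset.mem_insert_self _ _⟩
    rw [hθ, Finset.mem_singleton] at h
    exact h2 i (h.trans (congrArg Subtype.val hi).symm)

namespace F5

variable (F : F5 G)

/-- renumbering -/
def perm (σ : Equiv.Perm (Fin 4)) : F5 G :=
  ⟨F.c ∘ σ, F.s ∘ σ, F.inj.comp σ.injective, fun _ => F.ne _, fun _ => F.sign _, F.ord,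
    fun _ => F.val _, fun g hg => by
      rw [← F.rel g hg, ← Equiv.sum_comp σ fun i => (F.s i : ℂ) * (F.c i).1 g]; rfl,
    fun ψ h1 h2 => F.out ψ h1 fun i => by simpa using h2 (σ.symm i)⟩

/-- the signed degrees -/
noncomputable def d (i : Fin 4) : ℤ := F.s i * dg (F.c i)

/-- signed sums of characters -/
noncomputable def lin (f : Fin 4 → ℤ) : G → ℂ :=
  (irrOne G).1 + ∑ i, ((f i * F.s i : ℤ) : ℂ) • (F.c i).1

theorem lin_apply (f : Fin 4 → ℤ) (g : G) :
    F.lin f g = 1 + ∑ i, f i * (F.s i * (F.c i).1 g) := by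
  simp [lin, irrOne_apply, Finset.sum_apply, mul_assoc]

theorem ss (i : Fin 4) : F.s i * F.s i = 1 := by rcases F.sign i with h | h <;> simp [h]

theorem lin_int (f : Fin 4 → ℤ) {g : G} {w : Fin 4 → ℤ} (h : ∀ i, (F.c i).1 g = w i) :
    F.lin f g = (1 + ∑ i, f i * (F.s i * w i) : ℤ) := by
  rw [lin_apply]; simp [h]

theorem lin_one (f : Fin 4 → ℤ) : F.lin f 1 = (1 + ∑ i, f i * F.d i : ℤ) :=
  F.lin_int f (w := fun i => dg (F.c i)) fun i => by rw [← dg_cast, Int.cast_natCast]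

theorem lin_five (f : Fin 4 → ℤ) {g : G} (hg : orderOf g = 5) : F.lin f g = (1 + ∑ i, f i : ℤ) := by
  rw [F.lin_int f fun i => F.val i g hg]; simp [ss]

theorem lin_top {g : G} (hg : orderOf g ≠ 5) : F.lin 1 g = 0 := by
  rw [lin_apply, ← F.rel g hg]; simp

theorem isGen_lin (f : Fin 4 → ℤ) : IsGeneralizedCharacter G (F.lin f) :=
  (irrOne G).2.isGen.add (isGen_sum _ _ fun i _ => (F.c i).2.isGen.intCast_smul _)

theorem sum_d : 1 + ∑ i, F.d i = 0 := by
  have := (F.lin_one 1).symm.trans (F.lin_top (by simp))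
  simpa using (Int.cast_eq_zero.1 this)

theorem inner_lin [Fintype G] (f f' : Fin 4 → ℤ) :
    classInner (F.lin f) (F.lin f') = (1 + ∑ i, f i * f' i : ℤ) := by
  classical
  have h1 : ∀ i, classInner (F.c i).1 (irrOne G).1 = 0 := fun i =>
    (F.c i).2.inner_eq_zero (irrOne G).2 fun h => F.ne i (Subtype.ext h)
  have h2 : ∀ i, classInner (irrOne G).1 (F.c i).1 = 0 := fun i =>
    (irrOne G).2.inner_eq_zero (F.c i).2 fun h => F.ne i (Subtype.ext h.symm)
  have h3 : ∀ i j, classInner (F.c i).1 (F.c j).1 = if j = i then 1 else 0 := fun i j => by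
    split_ifs with h
    · rw [h, (F.c i).2.inner_self]
    · exact (F.c i).2.inner_eq_zero (F.c j).2 fun e => h (F.inj (Subtype.ext e)).symm
  simp only [lin, classInner_add_left, classInner_add_right, classInner_sum_left,
    classInner_sum_right, classInner_smul_left, classInner_smul_right, h1, h2, h3,
    (irrOne G).2.inner_self, map_intCast, mul_zero, Finset.sum_const_zero, add_zero, zero_add,
    mul_ite, mul_one, Finset.sum_ite_eq, Finset.mem_univ, if_true]
  push_cast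
  congr 1
  refine Finset.sum_congr rfl fun i _ => ?_
  have : (F.s i : ℂ) * F.s i = 1 := by exact_mod_cast F.ss i
  linear_combination (f i * f' i : ℂ) * this

theorem split_sum (f f' : Fin 4 → ℤ)
    (h : ∀ g ≠ 1, orderOf g ≠ 5 → F.lin f g = 0 ∨ F.lin f' g = 0) :
    (Nat.card G : ℤ) * (1 + ∑ i, f i * f' i) = (1 + ∑ i, f i * F.d i) * (1 + ∑ i, f' i * F.d i) +
      (sset G 5).card * ((1 + ∑ i, f i) * (1 + ∑ i, f' i)) := by
  classical
  haveI := Fintype.ofFinite G
  have h1 := sum_mul_conj_eq (F.lin f) (F.lin f')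
  have h2 : (1 : G) ∉ sset G 5 := by simp [mem_sset]
  rw [F.inner_lin, ← Finset.sum_subset (insert 1 (sset G 5)).subset_univ fun g _ hg => by
      rw [Finset.mem_insert, not_or, mem_sset] at hg
      rcases h g hg.1 fun e => hg.2 (e ▸ dvd_rfl) with e | e <;> simp [e],
    Finset.sum_insert h2, lin_one, lin_one, Finset.sum_congr (s₁ := sset G 5) rfl fun g hg => by
      rw [F.lin_five f (F.ord g (mem_sset.1 hg)), F.lin_five f' (F.ord g (mem_sset.1 hg))],
    Finset.sum_const, nsmul_eq_mul, map_intCast, map_intCast] at h1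
  exact_mod_cast h1.symm

include F in
theorem card_sset : (Nat.card G : ℤ) = 5 * (sset G 5).card := by
  have := F.split_sum 1 0 fun g _ hg => .inl (F.lin_top hg)
  simp only [Pi.one_apply, Pi.zero_apply, one_mul, F.sum_d] at this
  simp at this
  linarith

open Classical in
/-- the indicator of a block -/
noncomputable def ind (M : Ideal AlgInt) (i : Fin 4) : ℤ :=
  if F.c i ∈ principalBlock M G then 1 else 0

theorem lin_ind {q : ℕ} [hq : Fact q.Prime] (h5 : q ≠ 5) {M : Ideal AlgInt} (hM : IsPModular q M)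
    {g : G} (hg : q ∣ orderOf g) : F.lin (F.ind M) g = 0 := by
  rw [← part_zero hM (θ := F.lin 1) (fun g hg => F.lin_top fun e => h5
    ((Nat.prime_dvd_prime_iff_eq hq.out Nat.prime_five).1 (e ▸ hg))) hg, lin, lin, blockPart_add,
    blockPart_irr_of_mem (Block.irrOne_mem_principal hM), blockPart_sum]
  refine congrFun (congrArg _ (Finset.sum_congr rfl fun i _ => ?_)) g
  rw [blockPart_smul, ind]
  split_ifs with h
  · rw [blockPart_irr_of_mem h]; rfl
  · rw [blockPart_irr_of_notMem h]; simp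

theorem d_ne (i : Fin 4) : F.d i ≠ 0 := by
  have := dg_pos (F.c i)
  rcases F.sign i with h | h <;> rw [d, h] <;> omega

/-- the class multiplication coefficient -/
theorem quad {x t : G} (hx : orderOf x = 5) {w : Fin 4 → ℤ} (h : ∀ i, (F.c i).1 t = w i) :
    (pairs t t x : ℚ) * (Nat.card (centralizer ({t} : Set G)) : ℚ) ^ 2 =
      Nat.card G * (1 + ∑ i, ((F.s i * w i : ℤ) : ℚ) ^ 2 / F.d i) := by
  classical
  haveI := Fintype.ofFinite G
  have h1 := card_centralizer_mul_card_isConj t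
  have h0 : (Nat.card G : ℂ) ≠ 0 := card_ne_zero G
  have h2 := card_class_pairs t t x
  have h3 : irrOne G ∉ Finset.univ.map ⟨F.c, F.inj⟩ := fun h => by
    obtain ⟨i, -, hi⟩ := Finset.mem_map.1 h
    exact F.ne i hi
  rw [← Finset.sum_subset (insert (irrOne G) (Finset.univ.map ⟨F.c, F.inj⟩)).subset_univ
      fun ψ _ hψ => by
        rw [Finset.mem_insert, not_or] at hψ
        rw [F.out ψ hψ.1 (fun i e => hψ.2 (Finset.mem_map.2 ⟨i, Finset.mem_univ _, e.symm⟩)) x hx]
        simp, Finset.sum_insert h3, Finset.sum_map,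
    Finset.sum_congr rfl (g := fun i => ((F.s i * w i : ℤ) : ℂ) ^ 2 / F.d i) fun i _ => by
      have := F.val i x hx
      simp only [Function.Embedding.coeFn_mk, h, this, map_intCast, d, ← dg_cast]
      rcases F.sign i with e | e <;> rw [e] <;> push_cast <;> ring] at h2
  simp only [irrOne_apply, map_one, mul_one, div_one] at h2
  have h4 : (pairs t t x : ℂ) * (Nat.card (centralizer ({t} : Set G)) : ℂ) ^ 2 =
      Nat.card G * (1 + ∑ i, ((F.s i * w i : ℤ) : ℂ) ^ 2 / F.d i) := by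
    unfold pairs
    rw [h2]
    field_simp
    linear_combination (1 + ∑ i, ((F.s i * w i : ℤ) : ℂ) ^ 2 / F.d i) *
      ((Nat.card (centralizer ({t} : Set G)) : ℂ) * Nat.card {x : G // IsConj t x} + Nat.card G) * h1
  exact_mod_cast h4

theorem five {x : G} (hx : orderOf x = 5) (i : Fin 4) : F.d i % 5 = 1 := by
  have := (val_prime Nat.prime_five hx (F.val i x hx)).2.2
  rcases F.sign i with h | h <;> rw [d, h] <;> rw [h] at this <;> omega

theorem rat {x : G} (hx : orderOf x = 5) {i : Fin 4} (h1 : dg (F.c i) ≠ 1)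
    (h : ∀ j, dg (F.c j) = dg (F.c i) → j = i) (g : G) : ∃ z : ℤ, (F.c i).1 g = z := by
  refine rat_of _ (fun σ => ?_) g
  by_contra e
  have := F.out (galIrr σ (F.c i)) (fun e => h1 (by rw [← dg_gal σ, e, dg_irrOne]))
    (fun j e' => e (by rw [e', h j (by rw [← e', dg_gal])])) x hx
  rw [galIrr_apply, F.val i x hx, map_intCast, Int.cast_eq_zero] at this
  have := F.sign i
  omega

include F in
theorem not_dvd_cent {t : G} (h1 : t ≠ 1) (h5 : orderOf t ≠ 5) :
    ¬ 5 ∣ Nat.card (centralizer ({t} : Set G)) := fun h => by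
  obtain ⟨u, hu⟩ := exists_prime_orderOf_dvd_card' (G := centralizer ({t} : Set G)) 5 h
  rw [← orderOf_coe] at hu
  have e := Commute.orderOf_mul_eq_mul_orderOf_of_coprime (mem_centralizer_singleton_iff.1 u.2)
    (by rw [hu]; exact (Nat.Prime.coprime_iff_not_dvd Nat.prime_five).2 fun h => h5 (F.ord t h))
  rw [F.ord _ (by rw [e, hu]; exact dvd_mul_right _ _), hu] at e
  exact h1 (orderOf_eq_one_iff.1 (by omega))

theorem abs_d (i : Fin 4) : |F.d i| = dg (F.c i) := by
  rcases F.sign i with h | h <;> simp [d, h]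

theorem pm_d (i : Fin 4) : F.d i = dg (F.c i) ∨ F.d i = -dg (F.c i) := by
  rcases F.sign i with h | h <;> simp [d, h]

end F5

theorem smooth {n a b : ℕ} (h : n ∣ 5 * 3 ^ a * 2 ^ b) (h5 : ¬ 5 ∣ n) :
    ∃ α ≤ b, ∃ β ≤ a, n = 2 ^ α * 3 ^ β := by
  rw [mul_assoc] at h
  obtain ⟨u, v, hu, hv, rfl⟩ := exists_dvd_and_dvd_of_dvd_mul
    (((Nat.Prime.coprime_iff_not_dvd Nat.prime_five).2 h5).symm.dvd_of_dvd_mul_left h)
  obtain ⟨β, h1, rfl⟩ := (Nat.dvd_prime_pow Nat.prime_three).1 hu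
  obtain ⟨α, h2, rfl⟩ := (Nat.dvd_prime_pow Nat.prime_two).1 hv
  exact ⟨α, h2, β, h1, mul_comm _ _⟩

theorem vanish {χ : IrrCharacter G} {g : G} {w : ℤ} (h : χ.1 g = w) {q k : ℕ} (hq : q.Prime)
    (hd : (dg χ : ℤ) = q ^ k) (hi : ¬ q ∣ (centralizer ({g} : Set G)).index) (hw : |w| < dg χ) :
    w = 0 := by
  obtain ⟨l, hl, -⟩ := exists_omega h
  refine Int.eq_zero_of_abs_lt_dvd (IsCoprime.dvd_of_dvd_mul_left ?_ ⟨l, hl.trans (mul_comm _ _)⟩) hw
  rw [hd]
  exact (Nat.isCoprime_iff_coprime.2 (hq.coprime_iff_not_dvd.2 hi)).pow_left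

theorem Row.mono {a b α β : ℕ} {d : ℤ} {A B A' B' : Prop} (h : Row a b d α β A B) (hA : A' → A)
    (hB : B' → B) : Row a b d α β A' B' :=
  ⟨h.pm, h.la, h.lb, h.five, h.ne, h.hA ∘ hA, h.hB ∘ hB⟩

theorem PM.abs {x y : ℤ} (h : PM x y) (hy : 0 ≤ y) : |x| = y := by
  rcases h with rfl | rfl <;> simp [abs_of_nonneg hy]

/-- the standing hypotheses -/
structure Hyp (G : Type*) [Group G] (a b : ℕ) (x : G) (M N : Ideal AlgInt) : Prop where
  nc : ¬ IsMulCommutative G
  card : Nat.card G = 5 * 3 ^ a * 2 ^ b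
  a0 : a ≠ 0
  b6 : 6 ≤ b
  ox : orderOf x = 5
  cent : centralizer ({x} : Set G) = zpowers x
  hM : IsPModular 2 M
  hN : IsPModular 3 N

namespace Hyp

variable [IsSimpleGroup G] {a b : ℕ} {x : G} {M N : Ideal AlgInt} (H : Hyp G a b x M N) (F : F5 G)
include H

theorem d2 : 2 ^ b ∣ Nat.card G := H.card ▸ Dvd.intro_left _ rfl

theorem d3 : 3 ^ a ∣ Nat.card G := H.card ▸ (Dvd.intro_left _ rfl).mul_right _

theorem row (i : Fin 4) : ∃ α β, Row a b (F.d i) α β (F.c i ∈ principalBlock M G)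
    (F.c i ∈ principalBlock N G) := by
  have h5 := F.five H.ox i
  have hd := F.pm_d i
  obtain ⟨α, h1, β, h2, h3⟩ := smooth (H.card ▸ dg_dvd (F.c i)) (by omega)
  refine ⟨α, β, by rw [h3] at hd; push_cast at hd; exact hd, h1, h2, h5,
    fun h => F.ne i (dg_eq_one H.nc _ (by omega)), ?_, fun h => ⟨?_, ?_⟩⟩
  · rintro h rfl
    exact Small.not_pow_of_principal H.nc H.hM h (F.ne i) (k := α) (by rw [← dg_cast, h3]; simp)
  · rintro rfl
    exact Small.not_pow_of_principal H.nc H.hN h (F.ne i) (k := β) (by rw [← dg_cast, h3]; simp)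
  · have h4 := Small.not_dvd_deg_of_principal H.hN ((dvd_pow_self 3 H.a0).trans H.d3) h
    have h6 := (Nat.prime_three.pow_dvd_iff_le_factorization Nat.card_pos.ne').1 H.d3
    have h7 : ¬ a + 1 ≤ (Nat.card G).factorization 3 := fun h => by
      have := (Nat.prime_three.pow_dvd_iff_le_factorization Nat.card_pos.ne').2 h
      rw [H.card, mul_right_comm, mul_comm, pow_succ] at this
      have := Nat.dvd_of_mul_dvd_mul_left (by positivity) this
      exact absurd ((Nat.Coprime.pow_right b (by norm_num)).dvd_of_dvd_mul_right this) (by norm_num)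
    by_contra h8
    exact h4 ((pow_dvd_pow 3 (by omega)).trans (Dvd.intro_left _ h3.symm))

theorem dvd2 : (2 : ℤ) ^ b ∣ 1 + ∑ i, F.ind M i * F.d i :=
  pow_dvd_of_vanish Nat.prime_two H.d2 (F.isGen_lin _) (fun _ => F.lin_ind (by norm_num) H.hM)
    (F.lin_one _)

theorem dvd3 : (3 : ℤ) ^ a ∣ 1 + ∑ i, F.ind N i * F.d i :=
  pow_dvd_of_vanish Nat.prime_three H.d3 (F.isGen_lin _) (fun _ => F.lin_ind (by norm_num) H.hN)
    (F.lin_one _)

theorem prod : (1 + ∑ i, F.ind M i * F.d i) * (1 + ∑ i, F.ind N i * F.d i) = 2 ^ b * 3 ^ a *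
    (5 * (1 + ∑ i, F.ind M i * F.ind N i) - (1 + ∑ i, F.ind M i) * (1 + ∑ i, F.ind N i)) := by
  have h1 := F.split_sum (F.ind M) (F.ind N) fun g h1 h5 => by
    obtain ⟨α, -, β, -, h⟩ := smooth (H.card ▸ orderOf_dvd_natCard g) fun h => h5 (F.ord g h)
    rcases eq_or_ne α 0 with rfl | h0
    · refine .inr (F.lin_ind (by norm_num) H.hN (h ▸ (dvd_pow_self 3 ?_).mul_left _))
      rintro rfl
      exact h1 (orderOf_eq_one_iff.1 h)
    · exact .inl (F.lin_ind (by norm_num) H.hM (h ▸ (dvd_pow_self 2 h0).mul_right _))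
  have h2 := F.card_sset
  rw [H.card] at h1 h2
  push_cast at h1 h2
  rw [show ((sset G 5).card : ℤ) = 2 ^ b * 3 ^ a by linarith] at h1
  linear_combination -h1

theorem not_S (i0 : F.ind M 0 = 1) (i1 : F.ind M 1 = 0) (i2 : F.ind M 2 = 1) (i3 : F.ind M 3 = 0)
    {α : ℕ} (h1 : PM (F.d 1) (2 ^ α)) (h0 : F.d 0 = -3 ^ a)
    (h2 : 1 + F.d 0 + F.d 2 = -2 ^ (b + 1)) (b4 : b % 4 = 0) : False := by
  have b0 : b ≠ 0 := by have := H.b6; omega
  obtain ⟨z, z1, z2, z3⟩ := exists_central_invol ((dvd_pow_self 2 b0).trans H.d2)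
  have oz : orderOf z = 2 := orderOf_eq_prime (by rw [sq, z2]) z1
  have hw := fun i => (isRat_of_sq z2).cast (F.c i)
  have e1 := (F.lin_int _ hw).symm.trans (F.lin_ind (by norm_num) H.hM (oz ▸ dvd_rfl))
  have e2 := (F.lin_int _ hw).symm.trans (F.lin_top (by omega))
  have e3 := vanish (hw 1) Nat.prime_two (k := α) (by rw [← F.abs_d]; exact h1.abs (by positivity)) z3
    (abs_iv_lt H.nc z2 z1 (F.ne 1))
  have e4 := F.quad H.ox hw
  rw [Int.cast_eq_zero, Fin.sum_univ_four] at e1 e2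
  simp only [i0, i1, i2, i3, Pi.one_apply, e3] at e1 e2
  obtain ⟨γ, γb, c, -, hc⟩ := smooth (H.card ▸ card_subgroup_dvd_card _)
    (F.not_dvd_cent z1 (by omega))
  obtain rfl : γ = b := by
    have h := H.d2
    rw [← card_mul_index (centralizer ({z} : Set G)), hc, mul_assoc] at h
    refine le_antisymm γb ((Nat.pow_dvd_pow_iff_le_right one_lt_two).1
      (Nat.Coprime.dvd_of_dvd_mul_right (Nat.Coprime.pow_left _ ?_) h))
    exact (Nat.Coprime.pow_right _ (by norm_num)).mul_right (Nat.prime_two.coprime_iff_not_dvd.2 z3)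
  obtain ⟨α₂, β, r⟩ := H.row F 2
  have a4 : a % 4 = 2 := by have := F.five H.ox 0; have := p3 a; omega
  refine caseS (c := c) (W := F.s 2 * iv (F.c 2) z) (P := pairs z z x) H.b6 b4 a4 r.pm
    (r.hA (by_contra fun h => by simp [F5.ind, h] at i2)) r.lb (h0 ▸ h2) ?_
    (by rcases pairs_cases H.ox (by norm_num) H.cent z2 with h | h <;> simp [h]) ?_
  · rw [F.abs_d]
    have := abs_iv_lt H.nc z2 z1 (F.ne 2)
    rcases F.sign 2 with h | h <;> simpa [h] using this
  · rw [Fin.sum_univ_four, e3, show F.s 3 * iv (F.c 3) z = 0 by linarith,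
      show F.s 0 * iv (F.c 0) z = -(1 + F.s 2 * iv (F.c 2) z) by linarith, hc, H.card, h0] at e4
    have p : (F.d 2 : ℚ) ≠ 0 := Int.cast_ne_zero.2 (F.d_ne 2)
    generalize F.s 2 * iv (F.c 2) z = W at e4
    qify
    push_cast at e4
    rw [e4]
    field_simp
    ring

theorem six (h0 : F.d 0 = 3 ^ a) (h1 : F.d 1 = -2 ^ b) (m2 : F.c 2 ∈ principalBlock M G)
    (m3 : F.c 3 ∈ principalBlock M G) (n2 : F.c 2 ∈ principalBlock N G)
    (n3 : F.c 3 ∈ principalBlock N G) (h4 : F.d 2 % 4 = 2) : a = 4 ∧ b = 6 ∧ dg (F.c 2) = 6 := by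
  have a4 : a % 4 = 0 := by have := F.five H.ox 0; have := p3 a; omega
  have b2 : b % 2 = 0 := by have := F.five H.ox 1; have := p2 b; omega
  obtain ⟨α, β, r⟩ := H.row F 2
  obtain ⟨γ, δ, r'⟩ := H.row F 3
  have hs := F.sum_d
  rw [Fin.sum_univ_four, h0, h1] at hs
  obtain ⟨rfl, hγ⟩ := caseM1 H.b6 a4 r r' (by linarith) h4
  obtain ⟨y, y1, y2⟩ := exists_central Nat.prime_three ((dvd_pow_self 3 H.a0).trans H.d3)
  have y0 : y ≠ 1 := by rintro rfl; simp at y1
  have hw : ∀ i, ∃ w : ℤ, (F.c i).1 y = w := fun i => by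
    refine F.rat H.ox (fun h => F.ne i (dg_eq_one H.nc _ h)) (fun j h => ?_) y
    have k : dg (F.c 0) % 2 = 1 ∧ dg (F.c 1) % 16 = 0 ∧ dg (F.c 2) % 4 = 2 ∧
        dg (F.c 3) % 4 = 0 ∧ dg (F.c 3) % 16 ≠ 0 := by
      obtain ⟨T, hT⟩ := pdvd 2 H.b6
      refine ⟨?_, ?_, ?_, ?_⟩
      · have := p3 a; have := F.pm_d 0; omega
      · have := F.pm_d 1; omega
      · have := F.pm_d 2; omega
      · have t1 := p3 δ
        have t2 := F.pm_d 3
        have t3 := r'.pm
        unfold PM at t3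
        clear * - t1 t2 t3 hγ
        rcases hγ with rfl | rfl <;> omega
    clear * - k h
    fin_cases i <;> fin_cases j <;> simp at h ⊢ <;> omega
  choose w hw using hw
  have bd : ∀ i, w i < dg (F.c i) ∧ 0 ≤ dg (F.c i) + 2 * w i := fun i =>
    ⟨lt_dg (F.ne i) y0 (hw i), by simpa using (val_prime Nat.prime_three y1 (hw i)).2.1⟩
  have e1 := (F.lin_int _ hw).symm.trans (F.lin_top (by omega))
  have e3 := vanish (hw 0) Nat.prime_three (k := a) (by rw [← F.abs_d, h0]; simp) y2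
    (by have := bd 0; have := dg_pos (F.c 0); rw [abs_lt]; omega)
  have e4 := F.quad H.ox hw
  rw [Int.cast_eq_zero, Fin.sum_univ_four] at e1
  simp only [Pi.one_apply, e3] at e1
  obtain ⟨k, k1, k2⟩ := omega_cong H.hN n2 (hw 2)
  obtain ⟨l, l1, l2⟩ := omega_cong H.hN n3 (hw 3)
  have bd' : ∀ i, -F.d i ^ 2 ≤ 2 * (F.s i * w i * F.d i) ∧ F.s i * w i * F.d i < F.d i ^ 2 := fun i => by
    have := bd i
    have : (0 : ℤ) < dg (F.c i) := by exact_mod_cast dg_pos (F.c i)
    rcases F.sign i with h | h <;> rw [F5.d, h] <;> constructor <;> nlinarith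
  have := caseM2 (P := pairs y y x) (C := Nat.card (centralizer ({y} : Set G))) H.b6 a4 b2
    (r.mono (fun _ => m2) fun _ => n2) (r'.mono (fun _ => m3) fun _ => n3) hγ (by linarith)
    (by exact_mod_cast y2) (by rw [F5.d]; linear_combination F.s 2 * k1) k2 (bd' 2).1 (bd' 2).2
    (by rw [F5.d]; linear_combination F.s 3 * l1) l2 (bd' 3).1 (bd' 3).2
    (by
      have h := H.d3
      rw [← card_mul_index (centralizer ({y} : Set G))] at h
      exact_mod_cast ((Nat.prime_three.coprime_iff_not_dvd.2 y2).pow_left a).dvd_of_dvd_mul_right h)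
    (by
      rw [Fin.sum_univ_four, e3, show F.s 1 * w 1 = -(1 + F.s 2 * w 2 + F.s 3 * w 3) by linarith,
        H.card, h0, h1] at e4
      have p : (F.d 2 : ℚ) ≠ 0 := Int.cast_ne_zero.2 (F.d_ne 2)
      have p : (F.d 3 : ℚ) ≠ 0 := Int.cast_ne_zero.2 (F.d_ne 3)
      generalize F.s 2 * w 2 = W at e4
      generalize F.s 3 * w 3 = V at e4
      qify
      push_cast at e4
      rw [e4]
      field_simp
      ring)
  have := F.pm_d 2
  omega

theorem main_aux {j i : ℕ} (r0 : Row a b (F.d 0) 0 j True False) (r1 : Row a b (F.d 1) i 0 False True)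
    (m0 : F.c 0 ∈ principalBlock M G) (n0 : F.c 0 ∉ principalBlock N G)
    (m1 : F.c 1 ∉ principalBlock M G) (n1 : F.c 1 ∈ principalBlock N G)
    (m2 : F.c 2 ∈ principalBlock M G) : a = 4 ∧ b = 6 ∧ ∃ χ : IrrCharacter G, dg χ = 6 := by
  obtain ⟨α, β, r2⟩ := H.row F 2
  obtain ⟨γ, δ, r3⟩ := H.row F 3
  have hs := F.sum_d
  have h2 := H.dvd2 F
  have h3 := H.dvd3 F
  have h4 := H.prod F
  simp only [Fin.sum_univ_four, F5.ind, m0, n0, m1, n1, m2, if_true, if_false] at hs h2 h3 h4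
  rcases four_aux H.b6 r0 r1 (r2.mono (fun _ => m2) id) r3 (by linarith)
    (by convert h2 using 1; split_ifs <;> ring) (by convert h3 using 1; split_ifs <;> ring)
    (by
      by_cases n2 : F.c 2 ∈ principalBlock N G <;> by_cases m3 : F.c 3 ∈ principalBlock M G <;>
        by_cases n3 : F.c 3 ∈ principalBlock N G <;>
        simp only [n2, m3, n3, if_true, if_false, and_self, and_false, false_and] at h4 ⊢ <;>
        linear_combination h4) with ⟨e0, e1, n2, m3, n3⟩ | ⟨e0, m3, e1, e2⟩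
  · have k : F.d 2 % 4 = 2 ∨ F.d 3 % 4 = 2 := by
      have := r2.even (r2.hB n2).1
      have := F.five H.ox 0
      have := p3 a
      obtain ⟨T, hT⟩ := pdvd 2 H.b6
      clear h2 h3 h4
      omega
    rcases k with k | k
    · exact (H.six F e0 e1 m2 m3 n2 n3 k).imp_right (And.imp_right fun h => ⟨_, h⟩)
    · exact (H.six (F.perm (Equiv.swap 2 3)) e0 e1 m3 m2 n3 n2 k).imp_right
        (And.imp_right fun h => ⟨_, h⟩)
  · exact (H.not_S F (if_pos m0) (if_neg m1) (if_pos m2) (if_neg m3) r1.pm2 e0 e1 e2).elim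

include F in
theorem main : a = 4 ∧ b = 6 ∧ ∃ χ : IrrCharacter G, dg χ = 6 := by
  have b6 := H.b6
  have key : ∀ {P : Ideal AlgInt} {q : ℤ}, 1 < q → q ∣ 1 + ∑ i, F.ind P i * F.d i →
      ∃ i, F.c i ∈ principalBlock P G ∧ ¬ q ∣ F.d i := fun {P q} hq h => by
    by_contra! k
    have := (dvd_add_left (Finset.dvd_sum fun i _ => ?_)).1 h
    · exact absurd (Int.le_of_dvd one_pos this) (by omega)
    · unfold F5.ind; split_ifs with e
      exacts [(k i e).mul_left _, by simp]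
  obtain ⟨i, mi, hi⟩ := key one_lt_two ((dvd_pow_self 2 (by omega)).trans (H.dvd2 F))
  obtain ⟨j, nj, hj⟩ := key (q := 3) (by norm_num) ((dvd_pow_self 3 H.a0).trans (H.dvd3 F))
  obtain ⟨α, β, ri⟩ := H.row F i
  obtain ⟨γ, δ, rj⟩ := H.row F j
  obtain rfl : α = 0 := by have := ri.two; omega
  obtain rfl : δ = 0 := by have := rj.three; omega
  have ni := fun h => (ri.hB h).1 rfl
  have mj := fun h => rj.hA h rfl
  obtain ⟨k, ki, mk⟩ : ∃ k ≠ i, F.c k ∈ principalBlock M G := by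
    by_contra! k
    have h := H.dvd2 F
    rw [Finset.sum_eq_single i (fun l _ hl => by rw [F5.ind, if_neg (k l hl), zero_mul]) (by simp),
      F5.ind, if_pos mi, one_mul] at h
    exact ri.u_data.2.1 (Int.emod_eq_zero_of_dvd ((pow_dvd_pow 2 (show 4 ≤ b by omega)).trans h))
  obtain ⟨σ, rfl, rfl, rfl⟩ := (show ∀ i j k : Fin 4, i ≠ j → k ≠ i → k ≠ j →
    ∃ σ : Equiv.Perm (Fin 4), σ 0 = i ∧ σ 1 = j ∧ σ 2 = k by decide +kernel) i j k
    (fun e => ni (e ▸ nj)) ki fun e => mj (e ▸ mk)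
  exact H.main_aux (F.perm σ) (ri.mono (fun _ => mi) False.elim) (rj.mono False.elim fun _ => nj)
    mi ni mj nj mk

omit F in
theorem not_two (D : BD 5 x) (he : D.e = 2) : False := by
  classical
  obtain ⟨φ, hφ⟩ := Finset.card_eq_one.1 (show (D.X.erase (irrOne G)).card = 1 by
    rw [Finset.card_erase_of_mem D.h1, D.cardX, he])
  obtain ⟨φ1, φX⟩ := Finset.mem_erase.1 (hφ ▸ Finset.mem_singleton_self φ)
  have hX : D.X = {irrOne G, φ} := by rw [← Finset.insert_erase D.h1, hφ]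
  obtain ⟨θ, hθ⟩ := D.Y_nonempty
  have θ1 : θ ≠ irrOne G := fun h => Finset.disjoint_left.1 D.disj D.h1 (h ▸ hθ)
  have e := D.deg_eq
  rw [hX, Finset.sum_pair φ1.symm, D.ε_one, one_mul] at e
  change _ = (dg (irrOne G) : ℤ) + _ * dg φ at e
  rw [dg_irrOne, ← D.dg_Y hθ] at e
  have sm := fun χ h => smooth (H.card ▸ dg_dvd χ) (D.not_dvd_dg (D.mem_blk.2 h))
  obtain ⟨α, -, β, -, h1⟩ := sm φ (.inl φX)
  obtain ⟨γ, -, δ, -, h2⟩ := sm θ (.inr hθ)
  have n1 : dg φ ≠ 1 := fun h => φ1 (dg_eq_one H.nc _ h)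
  have n2 : dg θ ≠ 1 := fun h => θ1 (dg_eq_one H.nc _ h)
  have s1 := D.sign φ φX
  have s2 := D.signY
  have key : ∀ {u v i j k l : ℕ}, u = 2 ^ i * 3 ^ j → v = 2 ^ k * 3 ^ l → v ≠ 1 → 2 ∣ u →
      u = v + 1 ∨ v = u + 1 → u = 2 ^ i ∧ ¬ 64 ∣ u := by
    rintro u v i j k l hu hv v1 u2 h
    obtain rfl : k = 0 := by
      by_contra h0
      have := hv ▸ (dvd_pow_self 2 h0).mul_right (3 ^ l)
      omega
    have l0 : l ≠ 0 := by rintro rfl; simp at hv; exact v1 hv
    obtain rfl : j = 0 := by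
      by_contra h0
      have := hu ▸ (dvd_pow_self 3 h0).mul_left (2 ^ i)
      have := hv ▸ (dvd_pow_self 3 l0).mul_left (2 ^ 0)
      omega
    simp only [pow_zero, mul_one, one_mul] at hu hv
    have := adj (i := i) (j := l) (x := u) (y := -v) (.inl (by simp [hu])) (.inr (by simp [hv]))
      (by unfold PM; omega)
    refine ⟨hu, fun h => ?_⟩
    have := Nat.le_of_dvd (hu ▸ Nat.two_pow_pos i) h
    have := Nat.pow_le_pow_right two_pos ‹i ≤ 3›
    omega
  have hadj : dg φ = dg θ + 1 ∨ dg θ = dg φ + 1 := by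
    have := dg_pos φ
    have := dg_pos θ
    rcases s1 with h | h <;> rcases s2 with h' | h' <;> rw [h, h'] at e <;> omega
  obtain ⟨P, hP⟩ := D.exists_sylow
  have hb : (64 : ℤ) ∣ (2 : ℕ) ^ (Nat.card G).factorization 2 := pow_dvd_pow (2 : ℤ)
    (H.b6.trans ((Nat.prime_two.pow_dvd_iff_le_factorization Nat.card_pos.ne').1 H.d2))
  have bt := Small.brauer_tuan D.toB0Data P hP D.ox D.hM D.hB H.hM
    (by rw [H.cent, Nat.card_zpowers, H.ox]; norm_num) Small.isPBlock_principal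
  rw [hX, Finset.filter_insert, if_pos (Block.irrOne_mem_principal H.hM), Finset.filter_singleton,
    ← D.dg_Y hθ] at bt
  split_ifs at bt with m
  · rw [Finset.sum_pair φ1.symm, D.ε_one, one_mul] at bt
    change _ ∣ (dg (irrOne G) : ℤ) + _ * dg φ ∨ _ at bt
    rw [dg_irrOne, ← e] at bt
    by_cases h : 2 ∣ dg φ
    · exact Small.not_pow_of_principal H.nc H.hM m φ1 (k := α)
        (by rw [← dg_cast, (key h1 h2 n2 h hadj).1])
    have k := key h2 h1 n1 (by omega) hadj.symm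
    rcases bt with bt | bt
    · have := hb.trans bt
      rcases s2 with h' | h' <;> rw [h'] at this <;> omega
    · exact Small.not_pow_of_principal H.nc H.hM (bt.1 θ hθ) θ1 (k := γ) (by rw [← dg_cast, k.1])
  · rw [insert_empty_eq, Finset.sum_singleton, D.ε_one, one_mul] at bt
    change _ ∣ (dg (irrOne G) : ℤ) ∨ _ ∧ _ ∣ (dg (irrOne G) : ℤ) - _ at bt
    rw [dg_irrOne, e] at bt
    rcases bt with bt | bt
    · have := hb.trans bt
      omega
    · have := hb.trans bt.2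
      have h : 64 ∣ dg φ := by rcases s1 with h' | h' <;> rw [h'] at this <;> omega
      exact (key h1 h2 n2 (by omega) hadj).2 h

end Hyp

theorem exists_six [IsSimpleGroup G] (hG : ¬ IsMulCommutative G) {a b : ℕ}
    (hN : Nat.card G = 5 * 3 ^ a * 2 ^ b) (ha : a ≠ 0) (hb : 6 ≤ b) :
    a = 4 ∧ b = 6 ∧ ∃ χ : IrrCharacter G, dg χ = 6 := by
  obtain ⟨x, ⟨D⟩⟩ := exists_BD hG 5 (hN ▸ (dvd_mul_right _ _).mul_right _) (fun h => by
    rw [hN, mul_assoc, sq] at h
    exact absurd ((Nat.Coprime.pow_right a (by norm_num)).dvd_of_dvd_mul_left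
      (Nat.dvd_of_mul_dvd_mul_left (by norm_num) h)) fun h =>
        absurd (Nat.prime_five.dvd_of_dvd_pow h) (by norm_num)) (by norm_num)
  obtain ⟨M, hM⟩ := exists_isPModular Nat.prime_two
  obtain ⟨N, hN'⟩ := exists_isPModular Nat.prime_three
  have hC := S1001.result 5 a b Nat.prime_five hN x D.ox
  have H : Hyp G a b x M N := ⟨hG, hN, ha, hb, D.ox, hC, hM, hN'⟩
  have hc : D.c = 1 := by
    have := D.card_C
    rw [hC, Nat.card_zpowers, D.ox] at this
    omega
  obtain ⟨-, -, h1, h2, -⟩ := D.data hG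
  have := Nat.le_of_dvd (by norm_num) h2
  have : D.e = 2 ∨ D.e = 4 := by
    generalize D.e = e at *
    interval_cases e <;> simp_all
  rcases this with h | h
  · exact (H.not_two D h).elim
  · exact (exists_F5 D hc h).elim H.main

end Cfsg.Agent.K3
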