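import Cfsg.Agent.Math.Kit3
import Cfsg.Agent.Small.BT

/-! Integer values of characters: congruences and bounds. -/

set_option autoImplicit false
set_option linter.style.haveILetI false
set_option linter.unusedSectionVars false

namespace Cfsg.Agent.K3

open Subgroup Cfsg.Agent.Char Cfsg.Agent.Char.Euclid Cfsg.Agent.Block Cfsg.Agent.Math

variable {G : Type*} [Group G] [Finite G]

theorem exists_central {q : ℕ} (hq : q.Prime) (h : q ∣ Nat.card G) :
    ∃ z : G, orderOf z = q ∧ ¬ q ∣ (centralizer ({z} : Set G)).index := by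
  haveI := Fact.mk hq
  obtain ⟨P⟩ : Nonempty (Sylow q G) := inferInstance
  haveI : Nontrivial P := (P : Subgroup G).nontrivial_iff_ne_bot.2 (P.ne_bot_of_dvd_card h)
  haveI := P.isPGroup'.center_nontrivial
  obtain ⟨k, hk, hk'⟩ := (P.isPGroup'.to_subgroup (center P)).nontrivial_iff_card.1 inferInstance
  obtain ⟨z, hz⟩ := exists_prime_orderOf_dvd_card' (G := center P) q (hk' ▸ dvd_pow_self q hk.ne')
  rw [← orderOf_coe, ← orderOf_coe] at hz
  refine ⟨z.1.1, hz, fun h => P.not_dvd_index (h.trans (index_dvd_of_le fun g hg => ?_))⟩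
  exact mem_centralizer_singleton_iff.2 (congrArg Subtype.val (mem_center_iff.1 z.2 ⟨g, hg⟩))

theorem dg_dvd (χ : IrrCharacter G) : dg χ ∣ Nat.card G := χ.2.deg_dvd_card (dg_cast χ).symm

theorem exists_omega {χ : IrrCharacter G} {g : G} {w : ℤ} (h : χ.1 g = w) :
    ∃ k : ℤ, (centralizer ({g} : Set G)).index * w = k * dg χ ∧ centralChar χ.1 g = k := by
  have p : ((dg χ : ℕ) : ℤ) ≠ 0 := by exact_mod_cast (dg_pos χ).ne'
  have e : centralChar χ.1 g = (((centralizer ({g} : Set G)).index * w : ℤ) : ℂ) / ((dg χ : ℤ) : ℂ) := by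
    rw [centralChar, h, ← dg_cast]; push_cast; rfl
  obtain ⟨k, hk⟩ := int_dvd_of_isIntegral_div p (e ▸ isIntegral_centralChar χ.2 g)
  refine ⟨k, hk.trans (mul_comm _ _), ?_⟩
  rw [e, hk, Int.cast_mul, mul_div_cancel_left₀ _ (Int.cast_ne_zero.2 p)]

theorem omega_cong {q : ℕ} {M : Ideal AlgInt} (hM : IsPModular q M) {χ : IrrCharacter G}
    (hχ : χ ∈ principalBlock M G) {g : G} {w : ℤ} (h : χ.1 g = w) :
    ∃ k : ℤ, (centralizer ({g} : Set G)).index * w = k * dg χ ∧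
      (q : ℤ) ∣ k - (centralizer ({g} : Set G)).index := by
  obtain ⟨k, h1, h2⟩ := exists_omega h
  refine ⟨k, h1, (val_intCast_lt_one_iff hM _).1 ?_⟩
  have := val_centralChar_sub_index_lt hM hχ g
  rw [h2] at this
  exact_mod_cast this

theorem abs_le_dg {χ : IrrCharacter G} {g : G} {w : ℤ} (h : χ.1 g = w) : |w| ≤ dg χ := by
  have := χ.2.isCharacter.norm_le g
  rw [h, ← dg_cast, Complex.norm_intCast, Complex.natCast_re] at this
  exact_mod_cast this

theorem lt_dg [IsSimpleGroup G] {χ : IrrCharacter G} (h1 : χ ≠ irrOne G) {g : G} (hg : g ≠ 1)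
    {w : ℤ} (h : χ.1 g = w) : w < dg χ :=
  lt_of_le_of_ne (le_of_abs_le (abs_le_dg h)) fun e =>
    Small.apply_ne_of_simple h1 hg (by rw [h, e, ← dg_cast, Int.cast_natCast])

/-- a rational value at an element of prime order -/
theorem val_prime {χ : IrrCharacter G} {g : G} {q : ℕ} (hq : q.Prime) (hg : orderOf g = q) {w : ℤ}
    (h : χ.1 g = w) : (∀ z ∈ zpowers g, z ≠ 1 → χ.1 z = w) ∧ 0 ≤ dg χ + ((q : ℤ) - 1) * w ∧
      (q : ℤ) ∣ dg χ - w := by
  have h1 : ∀ z ∈ zpowers g, z ≠ 1 → χ.1 z = w := by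
    intro z hz h1
    obtain ⟨k, rfl⟩ := (mem_powers_iff_mem_zpowers.2 hz)
    refine (χ.2.isGen.pow_eq_of_rat g (q := w) (by simpa using h) ?_).trans h
    rw [hg, Nat.coprime_comm, hq.coprime_iff_not_dvd, ← hg, orderOf_dvd_iff_pow_eq_one]
    exact h1
  refine ⟨h1, hg ▸ nonneg_of_val χ.2.isCharacter (dg_cast χ).symm h1, dvd_sub_comm.1 ?_⟩
  exact dvd_sub_of_pow χ.2.isCharacter hq h (by rw [← hg, pow_orderOf_eq_one, ← dg_cast]; simp)

/-- the block part of a function vanishing on the singular elements -/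
theorem part_zero {q : ℕ} [Fact q.Prime] {M : Ideal AlgInt} (hM : IsPModular q M) {θ : G → ℂ}
    (h : ∀ g, q ∣ orderOf g → θ g = 0) {g : G} (hg : q ∣ orderOf g) :
    blockPart (principalBlock M G) θ g = 0 :=
  blockPart_eq_zero_of_val hM (val_blockCoeff_principal_le_one hM) fun x hx => h x
    (pPart_ne_one_iff.1 fun e => pPart_ne_one_iff.2 hg (isConj_one_left.1 (e ▸ hx)))

theorem pow_dvd_of_vanish {q k : ℕ} (hq : q.Prime) (hk : q ^ k ∣ Nat.card G) {θ : G → ℂ}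
    (hθ : IsGeneralizedCharacter G θ) (h : ∀ g, q ∣ orderOf g → θ g = 0) {d : ℤ} (hd : θ 1 = d) :
    (q : ℤ) ^ k ∣ d := by
  haveI := Fact.mk hq
  obtain ⟨Q, hQ⟩ := Sylow.exists_subgroup_card_pow_prime q hk
  have := Small.card_dvd_of_vanish hθ Q (fun g hg h1 => h g ?_) hd
  · rwa [hQ, Nat.cast_pow] at this
  · obtain ⟨j, -, hj⟩ := (Nat.dvd_prime_pow hq).1 (hQ ▸ Q.orderOf_dvd_natCard hg)
    rw [hj]
    exact dvd_pow_self q fun e => h1 (orderOf_eq_one_iff.1 (by rw [hj, e, pow_zero]))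

theorem rat_of (χ : IrrCharacter G) (h : ∀ σ, galIrr σ χ = χ) (g : G) : ∃ z : ℤ, χ.1 g = z :=
  exists_int_of_forall_ringEquiv (χ.2.isCharacter.isIntegral g) fun σ => by rw [← galIrr_apply, h]

theorem dg_gal (σ : ℂ ≃+* ℂ) (χ : IrrCharacter G) : dg (galIrr σ χ) = dg χ :=
  charDegree_eq_of_eq (by rw [galIrr_apply, ← dg_cast, map_natCast])

theorem pow_eq_of_rat {χ : IrrCharacter G} (h : ∀ g, ∃ z : ℤ, χ.1 g = z) (m : ℕ)
    (hm : m.Coprime (Nat.card G)) (g : G) : χ.1 (g ^ m) = χ.1 g := by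
  obtain ⟨z, hz⟩ := h g
  exact χ.2.isGen.pow_eq_of_rat g (q := z) (by simpa using hz)
    (hm.coprime_dvd_right (orderOf_dvd_natCard g))

end Cfsg.Agent.K3
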